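import Mathlib.AlgebraicGeometry.AffineSpace
import Mathlib.AlgebraicGeometry.Noetherian
import Mathlib.RingTheory.IntegralClosure.IntegralRestrict
import Mathlib.RingTheory.Algebraic.Integral
import Mathlib.Algebra.MvPolynomial.Equiv

/-! non-closed points of affine space dominate some coordinate line -/

universe u

open CategoryTheory CategoryTheory.Limits AlgebraicGeometry MvPolynomial

namespace Groth.Agent.FinSupp51

set_option backward.isDefEq.respectTransparency.types false

theorem iso_apply {X Y : Scheme.{u}} (e : X ≅ Y) (x : X) : e.inv.base (e.hom.base x) = x := by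
  rw [← Scheme.Hom.comp_apply, e.hom_inv_id]
  rfl

theorem reindex_spec {R : CommRingCat.{u}} {n m : Type u} (i : m → n) :
    (AffineSpace.SpecIso n R).inv ≫ AffineSpace.reindex i (Spec R) =
      Spec.map (CommRingCat.ofHom (rename (R := R) i).toRingHom) ≫ (AffineSpace.SpecIso m R).inv := by
  ext1
  · rw [Category.assoc, Category.assoc, AffineSpace.reindex_over, AffineSpace.SpecIso_inv_over,
      AffineSpace.SpecIso_inv_over, ← Spec.map_comp]
    congr 1
    exact CommRingCat.hom_ext (RingHom.ext fun r => (rename_C i r).symm)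
  · rename_i j
    simp only [TopologicalSpace.Opens.map_top, Scheme.Hom.comp_app, CommRingCat.comp_apply]
    conv_lhs => enter [2]; tactic => exact AffineSpace.reindex_appTop_coord _ _ _
    conv_rhs => enter [2]; tactic => exact AffineSpace.SpecIso_inv_appTop_coord _ _
    rw [AffineSpace.SpecIso_inv_appTop_coord, ← CommRingCat.comp_apply, ← Scheme.ΓSpecIso_inv_naturality,
      CommRingCat.comp_apply, ConcreteCategory.hom_ofHom]
    exact congrArg _ (rename_X (R := R) i j).symm

/-- a prime meeting every coordinate line is maximal -/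
theorem isMaximal_of_coord {k : Type u} [Field k] {n : Type u} (P : Ideal (MvPolynomial n k)) [P.IsPrime]
    (h : ∀ i : n, P.comap (rename (R := k) fun _ : PUnit.{u + 1} => i).toRingHom ≠ ⊥) : P.IsMaximal := by
  refine Ideal.Quotient.maximal_of_isField P ?_
  have hint : Algebra.IsIntegral k (MvPolynomial n k ⧸ P) := by
    have hgen : Algebra.adjoin k (Set.range fun i : n => Ideal.Quotient.mkₐ k P (X i)) = ⊤ := by
      rw [show (Set.range fun i : n => Ideal.Quotient.mkₐ k P (X i)) = Ideal.Quotient.mkₐ k P '' Set.range X from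
        (Set.range_comp _ _), ← AlgHom.map_adjoin, MvPolynomial.adjoin_range_X, Algebra.map_top,
        AlgHom.range_eq_top]
      exact Ideal.Quotient.mkₐ_surjective k P
    refine ⟨fun x => ?_⟩
    have hle : Algebra.adjoin k (Set.range fun i : n => Ideal.Quotient.mkₐ k P (X i)) ≤
        integralClosure k (MvPolynomial n k ⧸ P) := by
      refine Algebra.adjoin_le ?_
      rintro _ ⟨i, rfl⟩
      obtain ⟨f, hf, hf0⟩ := Submodule.exists_mem_ne_zero_of_ne_bot (h i)
      let e := (MvPolynomial.uniqueAlgEquiv k PUnit.{u + 1})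
      have hcomp : ((Ideal.Quotient.mkₐ k P).comp (rename fun _ : PUnit.{u + 1} => i)).comp e.symm.toAlgHom =
          Polynomial.aeval (Ideal.Quotient.mkₐ k P (X i)) := by
        refine Polynomial.algHom_ext ?_
        simp [e]
      refine IsAlgebraic.isIntegral ⟨e f, fun h0 => hf0 (e.injective (h0.trans (map_zero e).symm)), ?_⟩
      rw [← hcomp]
      show Ideal.Quotient.mkₐ k P (rename (fun _ : PUnit.{u + 1} => i) (e.symm (e f))) = 0
      rw [e.symm_apply_apply]
      exact Ideal.Quotient.eq_zero_iff_mem.2 hf
    exact hle (hgen ▸ Algebra.mem_top)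
  exact isField_of_isIntegral_of_isField' (Field.toIsField k)

/-- a point whose coordinates are all algebraic is closed -/
theorem exists_generic_coord {k : Type u} [Field k] {n : Type u}
    (q : 𝔸(PUnit.{u + 1}; Spec (CommRingCat.of k))) (hq : closure {q} = Set.univ)
    (a : 𝔸(n; Spec (CommRingCat.of k))) (ha : ¬ IsClosed ({a} : Set 𝔸(n; Spec (CommRingCat.of k)))) :
    ∃ i : n, (AffineSpace.reindex (fun _ : PUnit.{u + 1} => i) (Spec (CommRingCat.of k))).base a = q := by
  let R := CommRingCat.of k
  let e := AffineSpace.SpecIso n R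
  let e₁ := AffineSpace.SpecIso PUnit.{u + 1} R
  by_contra hc
  simp only [not_exists] at hc
  refine ha ?_
  let P : PrimeSpectrum (MvPolynomial n k) := e.hom.base a
  have hgen : (e₁.hom.base q : PrimeSpectrum (MvPolynomial PUnit.{u + 1} k)).asIdeal = ⊥ := by
    let Q : PrimeSpectrum (MvPolynomial PUnit.{u + 1} k) := e₁.hom.base q
    have h1 : e₁.inv.base ⟨⊥, Ideal.isPrime_bot⟩ ∈ closure {q} := hq ▸ Set.mem_univ _
    have h2 : (⟨⊥, Ideal.isPrime_bot⟩ : PrimeSpectrum (MvPolynomial PUnit.{u + 1} k)) ∈ closure {Q} := by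
      have := image_closure_subset_closure_image e₁.hom.continuous (Set.mem_image_of_mem _ h1)
      rw [Set.image_singleton] at this
      exact Set.mem_of_eq_of_mem (iso_apply e₁.symm _).symm this
    exact le_bot_iff.1 ((PrimeSpectrum.le_iff_mem_closure _ _).2 h2)
  have hP : P.asIdeal.IsMaximal := by
    refine isMaximal_of_coord P.asIdeal fun i hi => hc i ?_
    have h3 := congrArg (fun f : Spec (CommRingCat.of (MvPolynomial n k)) ⟶ _ => f.base P)
      (reindex_spec (R := R) (fun _ : PUnit.{u + 1} => i))
    simp only [Scheme.Hom.comp_base, TopCat.hom_comp, ContinuousMap.comp_apply] at h3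
    rw [show e.inv.base P = a from iso_apply e a] at h3
    refine h3.trans ?_
    rw [← iso_apply e₁ q]
    refine congrArg e₁.inv.base (PrimeSpectrum.ext ?_)
    exact hi.trans hgen.symm
  have hcl : IsClosed ({P} : Set (PrimeSpectrum (MvPolynomial n k))) :=
    (PrimeSpectrum.isClosed_singleton_iff_isMaximal P).2 hP
  have : ({a} : Set 𝔸(n; Spec R)) = e.hom.base ⁻¹' {P} := by
    ext b
    exact ⟨fun h => congrArg e.hom.base h, fun h => e.hom.isOpenEmbedding.injective h⟩
  rw [this]
  exact hcl.preimage e.hom.continuous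

end Groth.Agent.FinSupp51
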